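import Mathlib
import Groth.Agent.Lib.Helper2.RefSch4
import Groth.Agent.Lib.Helper1.ReflFree2
import Groth.Agent.Lib.Helper1.SmoothDepth
import Groth.Agent.Lib.Lead.QC.SerreSupp
import Groth.Agent.Lib.Lead.Curve.DegMono
import Groth.Prelude.Def_TorSh

/-!
# Kernels of maps from locally free to torsion-free modules on a regular surface (helper5; S15070)
-/

set_option autoImplicit false
universe u
open CategoryTheory CategoryTheory.Limits AlgebraicGeometry TopologicalSpace Opposite IsLocalRing

namespace Groth.Agent.H5.OrdSurf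

open Groth.Agent.LD Groth.Agent.LD.QC Groth.Agent.H1.CohLen

attribute [-instance] Groth.Agent.LD.QC.stalkModule

/-- over a regular local domain of dimension `≤ 2`, the kernel of a map from a finite free module
to a finite torsion-free module is free. -/
theorem free_ker (R : Type u) [CommRing R] [IsRegularLocalRing R] [IsDomain R]
    (hdim : ringKrullDim R ≤ 2)
    {K F N : Type u} [AddCommGroup K] [Module R K] [Module.Finite R K]
    [AddCommGroup F] [Module R F] [Module.Finite R F] [Module.Free R F]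
    [AddCommGroup N] [Module R N] [Module.Finite R N] [Module.IsTorsionFree R N]
    (f : K →ₗ[R] F) (g : F →ₗ[R] N) (hf : Function.Injective f) (hfg : Function.Exact f g) :
    Module.Free R K := by
  obtain ⟨d, hd⟩ : ∃ d : ℕ, ringKrullDim R = d := by
    have h1 : ringKrullDim R ≠ ⊥ := ringKrullDim_ne_bot
    have h2 : ringKrullDim R ≠ ⊤ := by
      intro h; rw [h] at hdim; exact absurd hdim (by decide)
    obtain ⟨n, hn⟩ := WithBot.ne_bot_iff_exists.mp h1
    have h3 : n ≠ ⊤ := by
      intro h; apply h2; rw [← hn, h]; rfl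
    obtain ⟨m, hm⟩ := ENat.ne_top_iff_exists.mp h3
    exact ⟨m, by rw [← hn, ← hm]; rfl⟩
  have hd2 : d ≤ 2 := by
    rw [hd] at hdim
    exact_mod_cast hdim
  haveI : Module.IsTorsionFree R K :=
    Function.Injective.moduleIsTorsionFree f hf (fun r m => map_smul f r m)
  apply Groth.Agent.H1.ReflFree.free_of_depth_ge R d hd K
  interval_cases d
  · simp
  · have h1 : (1 : WithBot ℕ∞) ≤ ringKrullDim R := by rw [hd]; norm_cast
    exact_mod_cast Groth.Agent.H2.RefSch.one_le_depth_of_isTorsionFree h1 K
  · have h1 : (1 : WithBot ℕ∞) ≤ ringKrullDim R := by rw [hd]; norm_cast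
    have h2 : (2 : WithBot ℕ∞) ≤ ringKrullDim R := by rw [hd]; norm_cast
    have hR := Groth.Agent.H2.RefSch.two_le_depth_of_regular R h2
    have hF : (2 : ℕ∞) ≤ LocCoh.depth R F :=
      Groth.Agent.H2.RefSch.two_le_depth_of_isReflexive hR F
    have hN : (1 : ℕ∞) ≤ LocCoh.depth R N :=
      Groth.Agent.H2.RefSch.one_le_depth_of_isTorsionFree h1 N
    exact_mod_cast Groth.Agent.H2.RefSch.two_le_depth_of_exact f g hf hfg hF hN

/-- **S15070**, abstract form. -/
theorem isFinLocFree_kernel (X : Scheme.{u}) [IsIntegral X] [IsLocallyNoetherian X]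
    (hreg : ∀ x : X, IsRegularLocalRing (X.presheaf.stalk x))
    (hdim : topologicalKrullDim X ≤ 2)
    (N : X.Modules) (hN : Coh.IsCoh N) (hNtf : TorSh.IsTorsionFree N)
    (M : X.Modules) (hM : FlatMod.IsFinLocFree M) (φ : M ⟶ N) [Epi φ] :
    FlatMod.IsFinLocFree (kernel φ) := by
  have hMc : Coh.IsCoh M := Curve.isCoh_of_isFinLocFree hM
  have hKc : Coh.IsCoh (kernel φ) := isCoh_kernel φ hMc hN
  haveI := hKc.1
  haveI := hMc.1
  haveI := hN.1
  refine isFinLocFree_of_free_stalks _ (isFinitePresentation_of_qc_ft _ hKc.1 hKc.2) (fun x => ?_)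
  haveI := hreg x
  haveI : Module.Finite (X.presheaf.stalk x) ((kernel φ).presheaf.stalk x) :=
    finite_stalk _ hKc.2 x
  haveI : Module.Finite (X.presheaf.stalk x) (M.presheaf.stalk x) := finite_stalk _ hMc.2 x
  haveI : Module.Finite (X.presheaf.stalk x) (N.presheaf.stalk x) := finite_stalk _ hN.2 x
  haveI : Module.Free (X.presheaf.stalk x) (M.presheaf.stalk x) :=
    free_stalk_of_isFinLocFree M hM x
  haveI : Module.IsTorsionFree (X.presheaf.stalk x) (N.presheaf.stalk x) := hNtf x
  have hS : (ShortComplex.mk (kernel.ι φ) φ (kernel.condition φ)).ShortExact :=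
    { exact := ShortComplex.exact_kernel φ
      mono_f := inferInstanceAs (Mono (kernel.ι φ))
      epi_g := inferInstanceAs (Epi φ) }
  exact free_ker (X.presheaf.stalk x) ((Groth.Agent.H3.FibreDim.stalk_dim_le X x).trans hdim)
    (stalkLin (kernel.ι φ) x) (stalkLin φ x) (stalkFun_injective_of_mono (kernel.ι φ) x)
    (stalkFun_exact _ hS x)

end Groth.Agent.H5.OrdSurf
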