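import Mathlib
import Groth.Agent.Lib.Helper5.OrdSurf.KerFree
import Groth.Agent.Lib.Helper2.DepthRes7
import Groth.Agent.Lib.Helper2.IsoLocus
import Groth.Agent.Lib.Lead.QC.SuppPullback
import Groth.Agent.Lib.Lead.QC.Devissage

/-!
# Monomorphisms of locally free modules on a regular scheme (helper5; S15071)

A monomorphism of finite locally free modules on a regular integral locally Noetherian scheme is
an isomorphism unless its cokernel has a point of codimension `≤ 1` in its support (Hartogs).
-/

set_option autoImplicit false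
universe u
open CategoryTheory CategoryTheory.Limits AlgebraicGeometry TopologicalSpace Opposite IsLocalRing

namespace Groth.Agent.H5.OrdSurf

open Groth.Agent.LD Groth.Agent.LD.QC Groth.Agent.H1.CohLen Groth.Agent.H1.SchFlat

attribute [-instance] Groth.Agent.LD.QC.stalkModule

theorem two_le_of_not_le_one (d : WithBot ℕ∞) (h : ¬ d ≤ 1) : 2 ≤ d := by
  induction d with
  | bot => exact absurd bot_le h
  | coe n =>
    have h1 : ¬ n ≤ 1 := fun hn => h (by exact_mod_cast hn)
    have h2 : 1 < n := not_le.mp h1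
    have h3 : (1 : ℕ∞) + 1 ≤ n := Order.add_one_le_of_lt h2
    have h4 : (2 : ℕ∞) ≤ n := by
      rw [show (2 : ℕ∞) = 1 + 1 from rfl]; exact h3
    exact WithBot.coe_le_coe.mpr h4

set_option maxHeartbeats 800000 in
/-- **S15071**, abstract form. -/
theorem isIso_or_exists_codim_le_one (X : Scheme.{u}) [IsIntegral X] [IsLocallyNoetherian X]
    (hreg : ∀ x : X, IsRegularLocalRing (X.presheaf.stalk x))
    (M N : X.Modules) (hM : FlatMod.IsFinLocFree M) (hN : FlatMod.IsFinLocFree N)
    (φ : M ⟶ N) [Mono φ] :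
    IsIso φ ∨ ∃ x : X, x ∈ CohB1.support (cokernel φ) ∧
      ringKrullDim (X.presheaf.stalk x) ≤ 1 := by
  by_contra hcon
  rw [not_or] at hcon
  obtain ⟨hni, hcd'⟩ := hcon
  have hcd : ∀ x : X, x ∈ CohB1.support (cokernel φ) →
      ¬ ringKrullDim (X.presheaf.stalk x) ≤ 1 := fun x hx h => hcd' ⟨x, hx, h⟩
  apply hni
  have hMc : Coh.IsCoh M := Curve.isCoh_of_isFinLocFree hM
  have hNc : Coh.IsCoh N := Curve.isCoh_of_isFinLocFree hN
  have hQc : Coh.IsCoh (cokernel φ) := isCoh_cokernel φ hMc hNc
  haveI := hMc.1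
  haveI := hNc.1
  haveI := hQc.1
  have hZ : IsClosed (CohB1.support (cokernel φ)) := isClosed_support_of_isCoh hQc
  let V : X.Opens := ⟨(CohB1.support (cokernel φ))ᶜ, hZ.isOpen_compl⟩
  have hS : (ShortComplex.mk φ (cokernel.π φ) (cokernel.condition φ)).ShortExact :=
    { exact := ShortComplex.exact_cokernel φ
      mono_f := inferInstanceAs (Mono φ)
      epi_g := inferInstanceAs (Epi (cokernel.π φ)) }
  have hdepth : ∀ (F : X.Modules), FlatMod.IsFinLocFree F → ∀ y : X, y ∉ V →
      (2 : ℕ∞) ≤ LocCoh.depth (X.presheaf.stalk y) (F.presheaf.stalk y) := by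
    intro F hF y hy
    have hyZ : y ∈ CohB1.support (cokernel φ) := by
      by_contra h
      exact hy h
    have h2 := two_le_of_not_le_one _ (hcd y hyZ)
    haveI := hreg y
    have hFc := Curve.isCoh_of_isFinLocFree hF
    haveI := hFc.1
    haveI : Module.Finite (X.presheaf.stalk y) (F.presheaf.stalk y) := finite_stalk _ hFc.2 y
    haveI : Module.Free (X.presheaf.stalk y) (F.presheaf.stalk y) :=
      free_stalk_of_isFinLocFree F hF y
    exact Groth.Agent.H2.RefSch.two_le_depth_of_isReflexive
      (Groth.Agent.H2.RefSch.two_le_depth_of_regular _ h2) _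
  have hK : ∀ y ∈ V, Subsingleton ((kernel φ).presheaf.stalk y) := by
    intro y _
    exact subsingleton_stalk_of_isZero _ (isZero_kernel_of_mono φ) y
  have hC : ∀ y ∈ V, Subsingleton ((cokernel φ).presheaf.stalk y) := by
    intro y hy
    by_contra h
    exact hy h
  -- all stalks of the cokernel vanish
  have hall : ∀ x : X, Subsingleton ((cokernel φ).presheaf.stalk x) := by
    intro x
    have hsurj : Function.Surjective (stalkFun φ x) := by
      intro n
      obtain ⟨W, hxW, s, rfl⟩ := TopCat.Presheaf.exists_germ_eq N.presheaf n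
      have hW' : W ⊓ V ≤ W := inf_le_left
      have hresM := Groth.Agent.H2.RefSch.res_bijective_of_depth M hMc W (W ⊓ V) hW'
        (fun y _ hy => hdepth M hM y (fun hyV => hy ⟨‹y ∈ W›, hyV⟩))
      have hresN := Groth.Agent.H2.RefSch.res_bijective_of_depth N hNc W (W ⊓ V) hW'
        (fun y _ hy => hdepth N hN y (fun hyV => hy ⟨‹y ∈ W›, hyV⟩))
      have hφ := Groth.Agent.H2.DepthRes.bijective_app_of_stalks φ V hK hC (W ⊓ V) inf_le_right
      obtain ⟨t', ht'⟩ := hφ.2 (N.presheaf.map (homOfLE hW').op s)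
      obtain ⟨t, ht⟩ := hresM.2 t'
      refine ⟨M.presheaf.germ W x hxW t, ?_⟩
      rw [stalkFun_germ]
      congr 1
      apply hresN.1
      rw [← app_res φ hW' t, ht, ht']
    refine ⟨fun a b => ?_⟩
    have key : ∀ c : (cokernel φ).presheaf.stalk x, c = 0 := by
      intro c
      obtain ⟨n, rfl⟩ := stalkFun_surjective_of_epi (cokernel.π φ) x c
      obtain ⟨m, rfl⟩ := hsurj n
      exact ((stalkFun_exact _ hS x) (stalkFun φ x m)).mpr ⟨m, rfl⟩
    rw [key a, key b]
  have h0 : IsZero (cokernel φ) := isZero_of_subsingleton_stalks _ hall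
  haveI : Epi φ := Preadditive.epi_of_isZero_cokernel φ h0
  exact isIso_of_mono_of_epi φ

end Groth.Agent.H5.OrdSurf
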