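import Mathlib
import Groth.Agent.Lib.Helper5.OrdSurf.KerFree
import Groth.Agent.Lib.Lead.PD.PushDepth
import Groth.Agent.Lib.Helper5.ChowStalk.E
import Groth.Agent.Lib.Helper5.Hyper.NormalSurf
import Groth.Agent.Lib.Helper5.Hyper.Ruled1
import Groth.Agent.Lib.Helper5.Curve1.G
import Groth.Agent.Lib.Helper5.IntN.Num2

/-!
# Elementary transformations along a curve on a regular surface (helper5; S15848)
-/

set_option autoImplicit false
universe u
open CategoryTheory CategoryTheory.Limits AlgebraicGeometry TopologicalSpace Opposite IsLocalRing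

namespace Groth.Agent.H5.OrdSurf

open Groth.Agent.LD Groth.Agent.LD.QC Groth.Agent.H1.CohLen

attribute [-instance] Groth.Agent.LD.QC.stalkModule

/-- the depth of the zero module is infinite. -/
theorem one_le_depth_of_subsingleton (R : Type u) [CommRing R] [IsLocalRing R] (N : Type u)
    [AddCommGroup N] [Module R N] [Subsingleton N] : (1 : ℕ∞) ≤ LocCoh.depth R N := by
  unfold LocCoh.depth LocCoh.idealDepth
  rw [if_pos (Subsingleton.elim _ _)]
  exact le_top

/-- variant of `free_ker` with a depth hypothesis on the target. -/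
theorem free_ker' (R : Type u) [CommRing R] [IsRegularLocalRing R] [IsDomain R]
    (hdim : ringKrullDim R ≤ 2)
    {K F N : Type u} [AddCommGroup K] [Module R K] [Module.Finite R K]
    [AddCommGroup F] [Module R F] [Module.Finite R F] [Module.Free R F]
    [AddCommGroup N] [Module R N] [Module.Finite R N]
    (hN : (2 : WithBot ℕ∞) ≤ ringKrullDim R → (1 : ℕ∞) ≤ LocCoh.depth R N)
    (f : K →ₗ[R] F) (g : F →ₗ[R] N) (hf : Function.Injective f) (hfg : Function.Exact f g) :
    Module.Free R K := by
  obtain ⟨d, hd⟩ : ∃ d : ℕ, ringKrullDim R = d := by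
    have h1 : ringKrullDim R ≠ ⊥ := ringKrullDim_ne_bot
    have h2 : ringKrullDim R ≠ ⊤ := by
      intro h; rw [h] at hdim; exact absurd hdim (by decide)
    obtain ⟨n, hn⟩ := WithBot.ne_bot_iff_exists.mp h1
    have h3 : n ≠ ⊤ := by
      intro h; apply h2; rw [← hn, h]; rfl
    obtain ⟨m, hm⟩ := ENat.ne_top_iff_exists.mp h3
    exact ⟨m, by rw [← hn, ← hm]; rfl⟩
  have hd2 : d ≤ 2 := by
    rw [hd] at hdim
    exact_mod_cast hdim
  haveI : Module.IsTorsionFree R K :=
    Function.Injective.moduleIsTorsionFree f hf (fun r m => map_smul f r m)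
  apply Groth.Agent.H1.ReflFree.free_of_depth_ge R d hd K
  interval_cases d
  · simp
  · have h1 : (1 : WithBot ℕ∞) ≤ ringKrullDim R := by rw [hd]; norm_cast
    exact_mod_cast Groth.Agent.H2.RefSch.one_le_depth_of_isTorsionFree h1 K
  · have h2 : (2 : WithBot ℕ∞) ≤ ringKrullDim R := by rw [hd]; norm_cast
    have hR := Groth.Agent.H2.RefSch.two_le_depth_of_regular R h2
    have hF : (2 : ℕ∞) ≤ LocCoh.depth R F :=
      Groth.Agent.H2.RefSch.two_le_depth_of_isReflexive hR F
    exact_mod_cast Groth.Agent.H2.RefSch.two_le_depth_of_exact f g hf hfg hF (hN h2)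

set_option maxHeartbeats 800000 in
/-- **S15848**, abstract form. -/
theorem isFinLocFree_kernel_push (S : Scheme.{u}) [IsIntegral S] [IsLocallyNoetherian S]
    (hreg : ∀ x : S, IsRegularLocalRing (S.presheaf.stalk x))
    (hdim : topologicalKrullDim S ≤ 2)
    (C : Scheme.{u}) (j : C ⟶ S) [IsClosedImmersion j] [IsIntegral C]
    (hC : topologicalKrullDim C = 1)
    (M : C.Modules) (hM : Coh.IsCoh M) (hMtf : TorSh.IsTorsionFree M)
    (F : S.Modules) (hF : FlatMod.IsFinLocFree F)
    (f : F ⟶ (Scheme.Modules.pushforward j).obj M) [Epi f] :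
    FlatMod.IsFinLocFree (kernel f) := by
  haveI : IsLocallyNoetherian C := LocallyOfFiniteType.isLocallyNoetherian j
  have hN : Coh.IsCoh ((Scheme.Modules.pushforward j).obj M) :=
    Groth.Agent.H5.IntN.isCoh_pushforward_closedImmersion j M hM
  have hFc : Coh.IsCoh F := Curve.isCoh_of_isFinLocFree hF
  have hKc : Coh.IsCoh (kernel f) := isCoh_kernel f hFc hN
  haveI := hKc.1
  haveI := hFc.1
  haveI := hN.1
  haveI := hM.1
  refine isFinLocFree_of_free_stalks _ (isFinitePresentation_of_qc_ft _ hKc.1 hKc.2) (fun x => ?_)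
  haveI := hreg x
  haveI : Module.Finite (S.presheaf.stalk x) ((kernel f).presheaf.stalk x) :=
    finite_stalk _ hKc.2 x
  haveI : Module.Finite (S.presheaf.stalk x) (F.presheaf.stalk x) := finite_stalk _ hFc.2 x
  haveI : Module.Finite (S.presheaf.stalk x)
      (((Scheme.Modules.pushforward j).obj M).presheaf.stalk x) := finite_stalk _ hN.2 x
  haveI : Module.Free (S.presheaf.stalk x) (F.presheaf.stalk x) :=
    free_stalk_of_isFinLocFree F hF x
  have hS : (ShortComplex.mk (kernel.ι f) f (kernel.condition f)).ShortExact :=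
    { exact := ShortComplex.exact_kernel f
      mono_f := inferInstanceAs (Mono (kernel.ι f))
      epi_g := inferInstanceAs (Epi f) }
  have hdepth : (2 : WithBot ℕ∞) ≤ ringKrullDim (S.presheaf.stalk x) →
      (1 : ℕ∞) ≤ LocCoh.depth (S.presheaf.stalk x)
        (((Scheme.Modules.pushforward j).obj M).presheaf.stalk x) := by
    intro h2
    by_cases hx : x ∈ Set.range j
    · obtain ⟨c, rfl⟩ := hx
      haveI : Module.Finite (C.presheaf.stalk c) (M.presheaf.stalk c) := finite_stalk _ hM.2 c
      rw [Groth.Agent.LD.PD.depth_stalk_push_closedImmersion j M c]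
      haveI := hMtf c
      -- `c` is a closed point
      have hcl : IsClosed ({j c} : Set S) := by
        by_contra hncl
        have h1 := Groth.Agent.H5.Hyper.ringKrullDim_stalk_le_of_not_isClosed 1
          (by exact_mod_cast hdim) (j c) hncl
        have h3 := h2.trans h1
        exact absurd h3 (by decide)
      have hcl' : IsClosed ({c} : Set C) := by
        have h4 : ({c} : Set C) = j ⁻¹' {j c} := by
          ext z
          simp only [Set.mem_singleton_iff, Set.mem_preimage]
          exact ⟨fun h => by rw [h], fun h => j.isClosedEmbedding.injective h⟩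
        rw [h4]
        exact hcl.preimage j.continuous
      have hne := Groth.Agent.H5.Hyper.ne_genericPoint_of_isClosed_of_dim_one hC c hcl'
      have h5 := Groth.Agent.H5.Curve1.ringKrullDim_stalk_eq_one hC.le c hne
      exact Groth.Agent.H2.RefSch.one_le_depth_of_isTorsionFree (by rw [h5]) _
    · haveI : Subsingleton (((Scheme.Modules.pushforward j).obj M).presheaf.stalk x) := by
        apply Groth.Agent.H5.ChowStalk.subsingleton_stalk_pushforward_of_notMem j M x
        rw [j.isClosedEmbedding.isClosed_range.closure_eq]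
        exact hx
      exact one_le_depth_of_subsingleton _ _
  exact free_ker' (S.presheaf.stalk x) ((Groth.Agent.H3.FibreDim.stalk_dim_le S x).trans hdim)
    hdepth (stalkLin (kernel.ι f) x) (stalkLin f x) (stalkFun_injective_of_mono (kernel.ι f) x)
    (stalkFun_exact _ hS x)

end Groth.Agent.H5.OrdSurf
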